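import Mathlib.Algebra.Homology.Double
import Mathlib.Algebra.Homology.HomologySequence
import Mathlib.Algebra.Homology.HomologicalComplexAbelian
import Mathlib.Algebra.Homology.DerivedCategory.Basic
import Groth.Agent.Lib.DimRed19.Main

/-!
# Two-term complexes related by short exact sequences
-/

set_option autoImplicit false
universe w v u

open CategoryTheory CategoryTheory.Limits HomologicalComplex

namespace GrothLib.CotIso4

variable {A : Type u} [Category.{v} A] [Abelian A]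

theorem rel : (ComplexShape.up ℤ).Rel (-1 : ℤ) 0 := neg_add_cancel (1 : ℤ)

/-- Both rows are extensions by the same object: the two complexes are quasi-isomorphic. -/
theorem exists_quasiIso {A₀ A₁ B₀ B₁ M : A} (φ : A₀ ⟶ A₁) (φ' : B₀ ⟶ B₁) (f₀ : A₀ ⟶ B₀) (f₁ : A₁ ⟶ B₁)
    (g₀ : B₀ ⟶ M) (g₁ : B₁ ⟶ M) (w₀ : f₀ ≫ g₀ = 0) (w₁ : f₁ ≫ g₁ = 0)
    (h₀ : (ShortComplex.mk f₀ g₀ w₀).ShortExact) (h₁ : (ShortComplex.mk f₁ g₁ w₁).ShortExact)
    (hf : φ ≫ f₁ = f₀ ≫ φ') (hg : φ' ≫ g₁ = g₀) :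
    ∃ F : double φ rel ⟶ double φ' rel, QuasiIso F := by
  have hne : (-1 : ℤ) ≠ 0 := by omega
  let F : double φ rel ⟶ double φ' rel :=
    mkHomFromDouble rel hne (f₀ ≫ (doubleXIso₀ φ' rel).inv) (f₁ ≫ (doubleXIso₁ φ' rel hne).inv)
      (by simp [double_d φ' rel hne, reassoc_of% hf])
      (fun k hk => (isZero_double_X φ' rel k (by simp at hk; omega) (by simp at hk; omega)).eq_of_tgt _ _)
  let G : double φ' rel ⟶ double (𝟙 M) rel :=
    mkHomFromDouble rel hne (g₀ ≫ (doubleXIso₀ (𝟙 M) rel).inv) (g₁ ≫ (doubleXIso₁ (𝟙 M) rel hne).inv)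
      (by simp [double_d (𝟙 M) rel hne, reassoc_of% hg])
      (fun k hk => (isZero_double_X (𝟙 M) rel k (by simp at hk; omega) (by simp at hk; omega)).eq_of_tgt _ _)
  have w : F ≫ G = 0 := by
    ext
    · simp [F, G, reassoc_of% w₀]
    · simp [F, G, reassoc_of% w₁]
  let S := ShortComplex.mk F G w
  have hS : S.ShortExact := shortExact_of_degreewise_shortExact S fun k => by
    by_cases hk₀ : k = -1
    · subst hk₀
      exact ShortComplex.shortExact_of_iso (ShortComplex.isoMk (doubleXIso₀ φ rel).symm (doubleXIso₀ φ' rel).symm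
        (doubleXIso₀ (𝟙 M) rel).symm (by simp [S, F]; exact Iso.inv_hom_id_assoc _ _)
        (by simp [S, G]; exact Iso.inv_hom_id_assoc _ _)) h₀
    by_cases hk₁ : k = 0
    · subst hk₁
      exact ShortComplex.shortExact_of_iso (ShortComplex.isoMk (doubleXIso₁ φ rel hne).symm
        (doubleXIso₁ φ' rel hne).symm (doubleXIso₁ (𝟙 M) rel hne).symm (by simp [S, F]; exact Iso.inv_hom_id_assoc _ _)
        (by simp [S, G]; exact Iso.inv_hom_id_assoc _ _)) h₁
    exact { exact := ShortComplex.exact_of_isZero_X₂ _ (isZero_double_X φ' rel k hk₀ hk₁)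
            mono_f := ⟨fun _ _ _ => (isZero_double_X φ rel k hk₀ hk₁).eq_of_tgt _ _⟩
            epi_g := ⟨fun _ _ _ => (isZero_double_X (𝟙 M) rel k hk₀ hk₁).eq_of_src _ _⟩ }
  have h : ∀ i, IsZero ((double (𝟙 M) rel).homology i) := fun i =>
    (exactAt_iff_isZero_homology _ i).1 (DimRed19.exactAt_disc M (-1) i)
  refine ⟨F, (quasiIso_iff _).2 fun i => (quasiIsoAt_iff_isIso_homologyMap _ i).2 ?_⟩
  have : Mono (homologyMap F i) :=
    (hS.homology_exact₁ (i - 1) i (show i - 1 + 1 = i by omega)).mono_g ((h (i - 1)).eq_of_src _ _)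
  have : Epi (homologyMap F i) := (hS.homology_exact₂ i).epi_f ((h i).eq_of_tgt _ _)
  exact isIso_of_mono_of_epi _

end GrothLib.CotIso4
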