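import Groth.Agent.Lib.ConStalk4.DiffMap
import Groth.Agent.Lib.ConStalk4.Maps
import Groth.Agent.Lib.OmegaExist4.Basic
import Groth.Agent.Lib.OmegaLocal4.Compat
import Groth.Agent.Lib.PPGen.EtaleSquare
import Groth.Agent.Lib.GrBC.Basic
import Groth.Agent.Lib.CotIso4.Double
import Groth.Agent.Lib.ConStalk4.VirtualDim
import Groth.Agent.S9386
import Groth.Agent.S9711

/-!
# Comparison of `C → Ω` along a smooth piece of a fibre product
-/

set_option autoImplicit false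
set_option backward.isDefEq.respectTransparency false
set_option maxHeartbeats 1000000

universe u

open CategoryTheory CategoryTheory.Limits AlgebraicGeometry Opposite TopologicalSpace HomologicalComplex
open GrothLib
open GrothLib.IdealModSec (val)

noncomputable section

namespace GrothLib.CotIso4

variable {X Y V V' W : Scheme.{u}}

/-- Maps out of a pulled back sheaf of differentials. -/
theorem hom_ext_compat {f : V ⟶ Y} {Ω : V.Modules} {d : OmegaSh.Der f Ω} (hd : OmegaSh.IsUniversal d)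
    (h : W ⟶ V) {G : W.Modules} (u v : (Scheme.Modules.pullback h).obj Ω ⟶ G)
    (H : ∀ (U : V.Opens) (s : Γ(V, U)), u.app (h ⁻¹ᵁ U) (OmegaSh.pullSect h Ω U (d.app U s)) =
      v.app (h ⁻¹ᵁ U) (OmegaSh.pullSect h Ω U (d.app U s))) : u = v := by
  let adj := Scheme.Modules.pullbackPushforwardAdjunction h
  refine (adj.homEquiv _ _).injective (PPGen.hom_ext_universal hd _ _ fun U s => ?_)
  exact (congr($(adj.homEquiv_unit _ _ u).app U (d.app U s))).trans
    ((H U s).trans (congr($(adj.homEquiv_unit _ _ v).app U (d.app U s))).symm)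

/-- The comparison map on an open piece of a fibre product is an isomorphism. -/
theorem isIso_compat_piece {g : V ⟶ Y} {g' : V' ⟶ Y} {P : Scheme.{u}} {f₁ : P ⟶ V} {f₂ : P ⟶ V'}
    (hP : IsPullback f₂ f₁ g' g) (o : W ⟶ P) [IsOpenImmersion o]
    {Ω' : V'.Modules} {d' : OmegaSh.Der g' Ω'} (hd' : OmegaSh.IsUniversal d')
    {ΩW : W.Modules} {dW : OmegaSh.Der (o ≫ f₁) ΩW} (hW : OmegaSh.IsUniversal dW)
    (c : (Scheme.Modules.pullback (o ≫ f₂)).obj Ω' ⟶ ΩW) (hc : OmegaSh.IsDiffCompat (o ≫ f₂) d' dW c) :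
    IsIso c := by
  obtain ⟨ΩP, dP, hPu⟩ := OmegaExist4.exists_universal f₁
  obtain ⟨cP, hcP, -⟩ := OmegaLocal4.existsUnique_compat f₂ g hP.w.symm d' hd' dP
  haveI := Groth.Agent.S9386.result g' g f₂ f₁ hP Ω' d' hd' ΩP dP hPu cP hcP
  obtain ⟨e, he, -⟩ := OmegaLocal4.existsUnique_compat o (𝟙 V) (Category.comp_id _) dP hPu dW
  haveI := PPGen.isIso_diffCompat_of_etale f₁ o (o ≫ f₁) rfl hPu hW e he
  have h : c = (Scheme.Modules.pullbackComp o f₂).inv.app Ω' ≫ (Scheme.Modules.pullback o).map cP ≫ e := by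
    refine hom_ext_compat hd' _ _ _ fun U s => (hc U s).trans ?_
    show _ = e.app (o ⁻¹ᵁ (f₂ ⁻¹ᵁ U)) (((Scheme.Modules.pullback o).map cP).app (o ⁻¹ᵁ (f₂ ⁻¹ᵁ U))
      (((Scheme.Modules.pullbackComp o f₂).inv.app Ω').app (o ⁻¹ᵁ (f₂ ⁻¹ᵁ U))
        (OmegaSh.pullSect (o ≫ f₂) Ω' U (d'.app U s))))
    rw [GrBC.pullbackComp_inv_pullSect, GrBC.pullback_map_pullSect, hcP U s]
    exact (he (f₂ ⁻¹ᵁ U) (f₂.app U s)).symm
  rw [h]
  infer_instance

/-- A derivation over `V` is one over `Y`. -/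
def baseDer {p : W ⟶ V} {g : V ⟶ Y} {q : W ⟶ Y} (hp : p ≫ g = q) {Ω : W.Modules} (d : OmegaSh.Der p Ω) :
    OmegaSh.Der q Ω := by
  subst hp
  exact PPGen.derOfBase p g d

theorem baseDer_app {p : W ⟶ V} {g : V ⟶ Y} {q : W ⟶ Y} (hp : p ≫ g = q) {Ω : W.Modules} (d : OmegaSh.Der p Ω)
    (U : W.Opens) (s : Γ(W, U)) : (baseDer hp d).app U s = d.app U s := by
  subst hp
  rfl

section Split

variable {g : V ⟶ Y} {g' : V' ⟶ Y} {q : W ⟶ Y} {p : W ⟶ V} {p' : W ⟶ V'} (hp : p ≫ g = q) (hp' : p' ≫ g' = q)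
  {Ω : V.Modules} {d : OmegaSh.Der g Ω} (hd : OmegaSh.IsUniversal d)
  {Ω' : V'.Modules} {d' : OmegaSh.Der g' Ω'} (hd' : OmegaSh.IsUniversal d')
  {ΩW : W.Modules} {dW : OmegaSh.Der q ΩW} (hW : OmegaSh.IsUniversal dW)
  {ΩV : W.Modules} {dV : OmegaSh.Der p ΩV} (hV : OmegaSh.IsUniversal dV)
  {ΩV' : W.Modules} {dV' : OmegaSh.Der p' ΩV'}
  {c : (Scheme.Modules.pullback p').obj Ω' ⟶ ΩV} (hc : OmegaSh.IsDiffCompat p' d' dV c) [IsIso c]
  {c' : (Scheme.Modules.pullback p).obj Ω ⟶ ΩV'} (hc' : OmegaSh.IsDiffCompat p d dV' c') [IsIso c']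

include hp hp' hd hd' hW hV hc hc'

/-- The first fundamental sequence of a piece of a fibre product splits. -/
theorem exists_splitting : ∃ (a : (Scheme.Modules.pullback p).obj Ω ⟶ ΩW) (b : ΩW ⟶ ΩV) (w : a ≫ b = 0),
    OmegaSh.IsDiffCompat p d dW a ∧ (∀ (U : W.Opens) (s : Γ(W, U)), b.app U (dW.app U s) = dV.app U s) ∧
      Nonempty (ShortComplex.mk a b w).Splitting := by
  obtain ⟨b, hb₀, -⟩ := hW _ (baseDer hp dV)
  obtain ⟨b', hb₀', -⟩ := hW _ (baseDer hp' dV')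
  have hb : ∀ (U : W.Opens) (s : Γ(W, U)), b.app U (dW.app U s) = dV.app U s := fun U s =>
    (PresheafOfModules.Derivation.congr_d hb₀ (X := op U) s).trans (baseDer_app hp dV U s)
  have hb' : ∀ (U : W.Opens) (s : Γ(W, U)), b'.app U (dW.app U s) = dV'.app U s := fun U s =>
    (PresheafOfModules.Derivation.congr_d hb₀' (X := op U) s).trans (baseDer_app hp' dV' U s)
  obtain ⟨a, ha, -⟩ := OmegaLocal4.existsUnique_compat p (𝟙 Y) (by rw [Category.comp_id, hp]) d hd dW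
  obtain ⟨a', ha', -⟩ := OmegaLocal4.existsUnique_compat p' (𝟙 Y) (by rw [Category.comp_id, hp']) d' hd' dW
  have hab : a ≫ b = 0 := by
    refine hom_ext_compat hd p _ _ fun U s => ?_
    show b.app (p ⁻¹ᵁ U) (a.app (p ⁻¹ᵁ U) (OmegaSh.pullSect p Ω U (d.app U s))) = 0
    rw [ha U s, hb]
    exact dV.d_app (X := op U) s
  have ha'b' : a' ≫ b' = 0 := by
    refine hom_ext_compat hd' p' _ _ fun U s => ?_
    show b'.app (p' ⁻¹ᵁ U) (a'.app (p' ⁻¹ᵁ U) (OmegaSh.pullSect p' Ω' U (d'.app U s))) = 0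
    rw [ha' U s, hb']
    exact dV'.d_app (X := op U) s
  have ha'b : a' ≫ b = c := by
    refine hom_ext_compat hd' p' _ _ fun U s => ?_
    show b.app (p' ⁻¹ᵁ U) (a'.app (p' ⁻¹ᵁ U) (OmegaSh.pullSect p' Ω' U (d'.app U s))) = _
    rw [ha' U s, hb, hc U s]
  have hab' : a ≫ b' = c' := by
    refine hom_ext_compat hd p _ _ fun U s => ?_
    show b'.app (p ⁻¹ᵁ U) (a.app (p ⁻¹ᵁ U) (OmegaSh.pullSect p Ω U (d.app U s))) = _
    rw [ha U s, hb', hc' U s]
  let h : ΩW ⟶ ΩW := b ≫ inv c ≫ a' + b' ≫ inv c' ≫ a - 𝟙 ΩW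
  have hah : a ≫ h = 0 := by
    simp only [h, Preadditive.comp_sub, Preadditive.comp_add, reassoc_of% hab, reassoc_of% hab', zero_comp,
      IsIso.hom_inv_id_assoc, Category.comp_id, zero_add, sub_self]
  have ha'h : a' ≫ h = 0 := by
    simp only [h, Preadditive.comp_sub, Preadditive.comp_add, reassoc_of% ha'b, reassoc_of% ha'b', zero_comp,
      IsIso.hom_inv_id_assoc, Category.comp_id, add_zero, sub_self]
  -- `h` kills the functions coming from `V`, so it factors through `ΩV`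
  let D : OmegaSh.Der p ΩW :=
    { d := fun {U} => (dW.postcomp h.val).d (X := U)
      d_mul := fun x y => (dW.postcomp h.val).d_mul x y
      d_map := fun i x => (dW.postcomp h.val).d_map i x
      d_app := fun {U} s => by
        show h.app (p ⁻¹ᵁ U.unop) (dW.app (p ⁻¹ᵁ U.unop) (p.app U.unop s)) = 0
        rw [← ha U.unop s]
        exact congr(($hah).app _ _) }
  obtain ⟨γ, hγ₀, -⟩ := hV _ D
  have hγ : b ≫ γ = h := PPGen.hom_ext_universal hW _ _ fun U s => by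
    show γ.app U (b.app U (dW.app U s)) = _
    rw [hb]
    exact PresheafOfModules.Derivation.congr_d hγ₀ (X := op U) s
  have hγ0 : γ = 0 := by
    rw [← cancel_epi c, comp_zero, ← ha'b, Category.assoc, hγ, ha'h]
  have hid : b ≫ inv c ≫ a' + b' ≫ inv c' ≫ a = 𝟙 ΩW := by
    refine sub_eq_zero.1 ?_
    show h = 0
    rw [← hγ, hγ0, comp_zero]
  exact ⟨a, b, hab, ha, hb, ⟨{
    r := b' ≫ inv c'
    s := inv c ≫ a'
    f_r := by simp [reassoc_of% hab']
    s_g := by simp [ha'b]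
    id := by
      simp only [Category.assoc]
      rw [add_comm]
      exact hid }⟩⟩

/-- The comparison of the two-term complexes. -/
theorem exists_quasiIso_piece [Smooth p] (k : X ⟶ W) [IsClosedImmersion k] [IsClosedImmersion (k ≫ p)]
    (φ : Omega.conormal (k ≫ p) ⟶ (Scheme.Modules.pullback (k ≫ p)).obj Ω)
    (hφ : OmegaSh.IsConormalDiff (k ≫ p) d φ) :
    ∃ F : double φ rel ⟶ double (ConStalk4.conormalDiff k dW) rel, QuasiIso F := by
  obtain ⟨a, b, w, ha, hb, ⟨spl⟩⟩ := exists_splitting hp hp' hd hd' hW hV hc hc'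
  obtain ⟨ψ, hψ, -⟩ := ConStalk4.existsUnique (i := k) (i' := k ≫ p) (g := p) (gZ := 𝟙 X) (Category.id_comp _)
  obtain ⟨wS, hS⟩ := Groth.Agent.S9711.result p k (k ≫ p) rfl ΩV dV hV ψ hψ _
    (ConStalk4.isConormalDiff_conormalDiff k dV)
  let f₀ := (Scheme.Modules.pullbackId X).inv.app (Omega.conormal (k ≫ p)) ≫ ψ
  let g₀ := ConStalk4.conormalDiff k dV
  let f₁ := (Scheme.Modules.pullbackComp k p).inv.app Ω ≫ (Scheme.Modules.pullback k).map a
  let g₁ := (Scheme.Modules.pullback k).map b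
  have w₀ : f₀ ≫ g₀ = 0 := by simp [f₀, g₀, wS]
  have w₁ : f₁ ≫ g₁ = 0 := by simp [f₁, g₁, ← Functor.map_comp, w]
  have h₀ : (ShortComplex.mk f₀ g₀ w₀).ShortExact :=
    ShortComplex.shortExact_of_iso (S₁ := ShortComplex.mk ψ g₀ wS) (S₂ := ShortComplex.mk f₀ g₀ w₀)
      (ShortComplex.isoMk ((Scheme.Modules.pullbackId X).app _) (Iso.refl _)
      (Iso.refl _) (by simp [f₀]) (by simp [g₀])) hS
  have h₁ : (ShortComplex.mk f₁ g₁ w₁).ShortExact :=
    ShortComplex.shortExact_of_iso (S₁ := (ShortComplex.mk a b w).map (Scheme.Modules.pullback k))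
      (S₂ := ShortComplex.mk f₁ g₁ w₁) (ShortComplex.isoMk ((Scheme.Modules.pullbackComp k p).app Ω) (Iso.refl _)
      (Iso.refl _) (by simp [f₁]) (by simp [g₁])) (spl.map (Scheme.Modules.pullback k)).shortExact
  refine exists_quasiIso φ _ f₀ f₁ g₀ g₁ w₀ w₁ h₀ h₁ ?_ ?_
  · refine PPGen.hom_ext_pullSect (k ≫ p) (M := ClSub.idealMod (k ≫ p).ker) _ _ fun U m => ?_
    obtain ⟨t, ht, ht'⟩ := ConStalk4.conormalMap_app p k ψ hψ U m
    show ((Scheme.Modules.pullback k).map a).app (k ⁻¹ᵁ (p ⁻¹ᵁ U))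
        (((Scheme.Modules.pullbackComp k p).inv.app Ω).app (k ⁻¹ᵁ (p ⁻¹ᵁ U))
          (φ.app ((k ≫ p) ⁻¹ᵁ U) (OmegaSh.conormalSect (k ≫ p) U m))) =
      (ConStalk4.conormalDiff k dW).app (k ⁻¹ᵁ (p ⁻¹ᵁ U))
        (f₀.app ((k ≫ p) ⁻¹ᵁ U) (OmegaSh.conormalSect (k ≫ p) U m))
    rw [hφ U m, GrBC.pullbackComp_inv_pullSect, GrBC.pullback_map_pullSect, ha, ht',
      ConStalk4.isConormalDiff_conormalDiff k dW (p ⁻¹ᵁ U) t]
    exact congrArg (fun x => OmegaSh.pullSect k ΩW (p ⁻¹ᵁ U) (dW.app (p ⁻¹ᵁ U) x)) ht.symm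
  · refine PPGen.hom_ext_pullSect k (M := ClSub.idealMod k.ker) _ _ fun U m => ?_
    show ((Scheme.Modules.pullback k).map b).app (k ⁻¹ᵁ U)
        ((ConStalk4.conormalDiff k dW).app (k ⁻¹ᵁ U) (OmegaSh.conormalSect k U m)) =
      g₀.app (k ⁻¹ᵁ U) (OmegaSh.conormalSect k U m)
    rw [ConStalk4.isConormalDiff_conormalDiff k dW U m, GrBC.pullback_map_pullSect, hb,
      ConStalk4.isConormalDiff_conormalDiff k dV U m]

end Split

end GrothLib.CotIso4
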