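import Groth.Agent.Lib.CotIso4.Piece
import Groth.Prelude.Def_DCoh2

/-!
# The two-term complex `N → i^*Ω` does not depend on the factorisation
-/

set_option autoImplicit false
set_option backward.isDefEq.respectTransparency false
set_option maxHeartbeats 1000000

universe u

open CategoryTheory CategoryTheory.Limits AlgebraicGeometry Opposite TopologicalSpace HomologicalComplex
open GrothLib

attribute [local instance] HasDerivedCategory.standard

noncomputable section

namespace GrothLib.CotIso4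

variable {X Y V V' : Scheme.{u}}

theorem isConormalDiff_unique {W : Scheme.{u}} {k : X ⟶ W} {q : W ⟶ Y} {Ω : W.Modules} {d : OmegaSh.Der q Ω}
    {a b : Omega.conormal k ⟶ (Scheme.Modules.pullback k).obj Ω} (ha : OmegaSh.IsConormalDiff k d a)
    (hb : OmegaSh.IsConormalDiff k d b) : a = b :=
  PPGen.hom_ext_pullSect k (M := ClSub.idealMod k.ker) _ _ fun U m => (ha U m).trans (hb U m).symm

/-- The comparison with a piece of the fibre product. -/
theorem exists_quasiIso_product (g : V ⟶ Y) [Smooth g] (g' : V' ⟶ Y) [Smooth g'] {P W : Scheme.{u}} {f₁ : P ⟶ V}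
    {f₂ : P ⟶ V'} (hP : IsPullback f₂ f₁ g' g) (o : W ⟶ P) [IsOpenImmersion o] {q : W ⟶ Y}
    (hq : (o ≫ f₁) ≫ g = q) (hq' : (o ≫ f₂) ≫ g' = q)
    {Ω : V.Modules} {d : OmegaSh.Der g Ω} (hd : OmegaSh.IsUniversal d)
    {Ω' : V'.Modules} {d' : OmegaSh.Der g' Ω'} (hd' : OmegaSh.IsUniversal d')
    {ΩW : W.Modules} {dW : OmegaSh.Der q ΩW} (hW : OmegaSh.IsUniversal dW)
    (k : X ⟶ W) [IsClosedImmersion k] (i : X ⟶ V) [IsClosedImmersion i] (hk : k ≫ o ≫ f₁ = i)
    (φ : Omega.conormal i ⟶ (Scheme.Modules.pullback i).obj Ω) (hφ : OmegaSh.IsConormalDiff i d φ) :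
    ∃ F : double φ rel ⟶ double (ConStalk4.conormalDiff k dW) rel, QuasiIso F := by
  subst hk
  obtain ⟨ΩV, dV, hV⟩ := OmegaExist4.exists_universal (o ≫ f₁)
  obtain ⟨ΩV', dV', hV'⟩ := OmegaExist4.exists_universal (o ≫ f₂)
  obtain ⟨c, hc, -⟩ := OmegaLocal4.existsUnique_compat (o ≫ f₂) g (by rw [Category.assoc, Category.assoc, hP.w])
    d' hd' dV
  obtain ⟨c', hc', -⟩ := OmegaLocal4.existsUnique_compat (o ≫ f₁) g' (by rw [Category.assoc, Category.assoc, hP.w])
    d hd dV'
  haveI := isIso_compat_piece hP o hd' hV c hc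
  haveI := isIso_compat_piece hP.flip o hd hV' c' hc'
  haveI : Smooth f₁ := MorphismProperty.of_isPullback (P := @Smooth) hP ‹Smooth g'›
  exact exists_quasiIso_piece (p := o ≫ f₁) hq hq' hd hd' hW hV hc hc' k φ hφ

theorem result {f : X ⟶ Y} (g : V ⟶ Y) [Smooth g] (i : X ⟶ V) [IsClosedImmersion i] (hi : i ≫ g = f)
    (g' : V' ⟶ Y) [Smooth g'] (i' : X ⟶ V') [IsClosedImmersion i'] (hi' : i' ≫ g' = f)
    {Ω : V.Modules} {d : OmegaSh.Der g Ω} (hd : OmegaSh.IsUniversal d)
    {Ω' : V'.Modules} {d' : OmegaSh.Der g' Ω'} (hd' : OmegaSh.IsUniversal d')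
    (φ : Omega.conormal i ⟶ (Scheme.Modules.pullback i).obj Ω) (hφ : OmegaSh.IsConormalDiff i d φ)
    (φ' : Omega.conormal i' ⟶ (Scheme.Modules.pullback i').obj Ω') (hφ' : OmegaSh.IsConormalDiff i' d' φ') :
    Nonempty (DCoh.toD X (double φ rel) ≅ DCoh.toD X (double φ' rel)) := by
  let kP := pullback.lift i i' (hi.trans hi'.symm)
  haveI : IsImmersion (kP ≫ pullback.fst g g') := by rw [pullback.lift_fst]; infer_instance
  haveI : IsImmersion kP := IsImmersion.of_comp kP (pullback.fst g g')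
  let k := kP.liftCoborder
  let o := kP.coborderRange.ι
  have hko : k ≫ o = kP := kP.liftCoborder_ι
  have hfst : k ≫ o ≫ pullback.fst g g' = i := by rw [← Category.assoc, hko, pullback.lift_fst]
  have hsnd : k ≫ o ≫ pullback.snd g g' = i' := by rw [← Category.assoc, hko, pullback.lift_snd]
  let q := (o ≫ pullback.fst g g') ≫ g
  have hq' : (o ≫ pullback.snd g g') ≫ g' = q := by simp [q, pullback.condition]
  obtain ⟨ΩW, dW, hW⟩ := OmegaExist4.exists_universal q
  obtain ⟨F, hF⟩ := exists_quasiIso_product g g' (IsPullback.of_hasPullback g g').flip o (q := q) rfl hq' hd hd' hW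
    k i hfst φ hφ
  obtain ⟨F', hF'⟩ := exists_quasiIso_product g' g (IsPullback.of_hasPullback g g') o (q := q) hq' rfl hd' hd hW
    k i' hsnd φ' hφ'
  haveI := hF
  haveI := hF'
  exact ⟨asIso (DerivedCategory.Q.map F) ≪≫ (asIso (DerivedCategory.Q.map F')).symm⟩

end GrothLib.CotIso4
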